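import Cfsg.Agent.Lib.Sporadic.Orbits
import Cfsg.Agent.Lib.Sporadic.SporMathieu
import Cfsg.Agent.Lib.ThreeTrans.M23Triples.Data

set_option autoImplicit false

/-!
Generation of M23 by the listed pairs (owner: helper28).
-/

namespace CfsgLib.ThreeTrans.M23Triples

open Cfsg CfsgLib.Sporadic
open scoped Pointwise

/-- The packed value of a word. -/
noncomputable def evalW (gens : List ℕ) (w : List ℕ) : ℕ :=
  w.foldr (fun j acc => pmul (gens.getD j pone) acc) pone

theorem evalW_rep {K : Subgroup (Equiv.Perm GolayPt)} {gens : List ℕ}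
    (hg : ∀ p ∈ gens, ∃ σ ∈ K, Rep σ p) (w : List ℕ) : ∃ σ ∈ K, Rep σ (evalW gens w) := by
  induction w with
  | nil => exact ⟨1, one_mem _, Rep.one⟩
  | cons j w ih =>
    obtain ⟨τ, hτ, hτr⟩ := ih
    obtain ⟨σ, hσ, hσr⟩ : ∃ σ ∈ K, Rep σ (gens.getD j pone) := by
      by_cases hj : j < gens.length
      · rw [List.getD_eq_getElem _ _ hj]; exact hg _ (List.getElem_mem hj)
      · rw [List.getD_eq_default _ _ (by omega)]; exact ⟨1, one_mem _, Rep.one⟩
    exact ⟨σ * τ, mul_mem hσ hτ, hσr.mul hτr⟩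

/-- The transversal elements fixing the extra point. -/
noncomputable def tailT : List ℕ :=
  m24Trans1 ++ m24Trans2 ++ m24Trans3 ++ m24Trans4 ++ m24Trans5 ++ m24Trans6

theorem transWords_ok : transWords.map (evalW [genA, genB]) = tailT := by decide +kernel

theorem card_of_contains_tail (K : Subgroup (Equiv.Perm GolayPt)) (hle : K ≤ Spor.M23)
    (hK : ∀ p ∈ tailT, ∃ σ ∈ K, Rep σ p) : Nat.card K = 10200960 := by
  have hle' : K ≤ M24 := hle.trans inf_le_left
  have h23 : fixOf K [23] = K := by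
    refine le_antisymm inf_le_left fun σ hσ => mem_fixOf.2 ⟨hσ, fun c hc => ?_⟩
    rw [List.mem_singleton.1 hc]
    exact MulAction.mem_stabilizer_iff.1 (hle hσ).2
  have hoct : setOfMask 8536111 ∈ octads := by
    rw [mem_octads_iff, maskOf_setOfMask (by norm_num)]; decide +kernel
  have inO : ∀ σ ∈ fixOf K [3, 2, 1, 0, 23], σ • setOfMask 8536111 = setOfMask 8536111 := by
    intro σ hσ
    refine smul_eq_of_fix_five (hle' (mem_fixOf.1 hσ).1) hoct (s := setOfMask 8388623)
      (by decide +kernel) (by decide +kernel) fun x hx => ?_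
    have hc : ix x ∈ [3, 2, 1, 0, 23] := by revert hx; revert x; decide +kernel
    have := (mem_fixOf.1 hσ).2 _ hc
    rwa [pt_ix] at this
  have e1 := card_level level1 (fun p hp => hK p (by simp [tailT, hp]))
    (mem_compl_of_fix (K := K) (pre := [23]) (b := 0) (by decide) (by decide +kernel))
  have e2 := card_level level2 (fun p hp => hK p (by simp [tailT, hp]))
    (mem_compl_of_fix (K := K) (pre := [0, 23]) (b := 1) (by decide) (by decide +kernel))
  have e3 := card_level level3 (fun p hp => hK p (by simp [tailT, hp]))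
    (mem_compl_of_fix (K := K) (pre := [1, 0, 23]) (b := 2) (by decide) (by decide +kernel))
  have e4 := card_level level4 (fun p hp => hK p (by simp [tailT, hp]))
    (mem_compl_of_fix (K := K) (pre := [2, 1, 0, 23]) (b := 3) (by decide) (by decide +kernel))
  have e5 := card_level level5 (fun p hp => hK p (by simp [tailT, hp])) fun σ hσ => by
    have hin : σ (pt 5) ∈ setOfMask 8536111 := by
      rw [← inO σ hσ]
      exact Finset.smul_mem_smul_finset (a := σ) (by decide +kernel)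
    have hout : ∀ c ∈ [3, 2, 1, 0, 23], σ (pt 5) ≠ pt c := fun c hc e => by
      rw [← (mem_fixOf.1 hσ).2 c hc] at e
      have h' := σ.injective e
      clear e
      revert c; decide
    revert hin hout
    generalize σ (pt 5) = y
    revert y; decide +kernel
  have e6 := card_level level6 (fun p hp => hK p (by simp [tailT, hp])) fun σ hσ => by
    have hσ' : σ ∈ fixOf K [3, 2, 1, 0, 23] := (Subgroup.mem_inf.1 hσ).1
    have hout : σ (pt 4) ∉ setOfMask 8536111 := by
      rw [← inO σ hσ']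
      show σ • pt 4 ∉ _
      rw [Finset.smul_mem_smul_finset_iff]
      decide +kernel
    revert hout
    generalize σ (pt 4) = y
    revert y; decide +kernel
  have e7 : Nat.card (fixOf K [4, 5, 3, 2, 1, 0, 23]) = 1 := by
    rw [Nat.card_eq_one_iff_unique]
    refine ⟨⟨fun a b => Subtype.ext ?_⟩, ⟨1⟩⟩
    have : ∀ σ ∈ fixOf K [4, 5, 3, 2, 1, 0, 23], σ = 1 := fun σ hσ =>
      eq_one_of_fix_base (hle' (mem_fixOf.1 hσ).1) fun i hi =>
        (mem_fixOf.1 hσ).2 i (by simp only [List.mem_cons, List.not_mem_nil] at hi ⊢; tauto)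
    rw [this _ a.2, this _ b.2]
  rw [e2, e3, e4, e5, e6, e7] at e1
  rw [← h23]
  refine e1.trans ?_
  decide +kernel

theorem eq_M23_of_gens {K : Subgroup (Equiv.Perm GolayPt)} (hle : K ≤ Spor.M23)
    (hA : ∃ σ ∈ K, Rep σ genA) (hB : ∃ σ ∈ K, Rep σ genB) : K = Spor.M23 := by
  refine Subgroup.eq_of_le_of_card_ge hle ?_
  rw [card_sporM23, card_of_contains_tail K hle fun p hp => ?_]
  rw [← transWords_ok, List.mem_map] at hp
  obtain ⟨w, -, rfl⟩ := hp
  exact evalW_rep (by
    intro t ht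
    rcases List.mem_cons.1 ht with rfl | ht
    · exact hA
    · rw [List.mem_singleton] at ht; rw [ht]; exact hB) w

/-- The packed number moves a point. -/
noncomputable def moves (p : ℕ) : Bool := (List.range 24).any fun i => ! Nat.beq (pget p i) i

/-- The check of one entry. -/
noncomputable def entryOK (e : (ℕ × ℕ × ℕ) × (ℕ × ℕ × ℕ) × List ℕ × List ℕ) : Bool :=
  let x := e.2.1.1; let y := e.2.1.2.1; let z := e.2.1.2.2
  isAut x && Nat.beq (pget x 23) 23 && isAut y && Nat.beq (pget y 23) 23 &&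
  isAut z && Nat.beq (pget z 23) 23 &&
  Nat.beq (pmul x (pmul y z)) pone &&
  moves x && Nat.beq (evalW [x] (List.replicate e.1.1 0)) pone &&
  moves y && Nat.beq (evalW [y] (List.replicate e.1.2.1 0)) pone &&
  moves z && Nat.beq (evalW [z] (List.replicate e.1.2.2 0)) pone &&
  Nat.beq (evalW [x, y] e.2.2.1) genA && Nat.beq (evalW [x, y] e.2.2.2) genB

theorem triples_ok : triples.all entryOK = true := by decide +kernel

theorem mem_M23_of_check {p : ℕ} (h1 : isAut p = true) (h2 : pget p 23 = 23) :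
    ∃ σ : Spor.M23, Rep (σ : Equiv.Perm GolayPt) p := by
  obtain ⟨σ, hσ, hr⟩ := exists_mem_M24 h1
  refine ⟨⟨σ, hσ, MulAction.mem_stabilizer_iff.2 (ix_injective ((hr none).symm.trans h2))⟩, hr⟩

theorem orderOf_of_word {σ : Spor.M23} {p n : ℕ} (hn : n.Prime) (hr : Rep (σ : Equiv.Perm GolayPt) p)
    (h1 : moves p = true) (hw : evalW [p] (List.replicate n 0) = pone) : orderOf σ = n := by
  have : Fact n.Prime := ⟨hn⟩
  have key : ∀ k : ℕ, Rep ((σ : Equiv.Perm GolayPt) ^ k) (evalW [p] (List.replicate k 0)) := fun k => by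
    induction k with
    | zero => exact Rep.one
    | succ k ih =>
      rw [List.replicate_succ, pow_succ']
      exact hr.mul ih
  refine orderOf_eq_prime (Subtype.ext ?_) fun e => ?_
  · have hk := key n
    rw [hw] at hk
    exact hk.unique Rep.one
  · have e' : (σ : Equiv.Perm GolayPt) = 1 := congrArg Subtype.val e
    rw [e'] at hr
    rw [moves, List.any_eq_true] at h1
    obtain ⟨i, hi, hb⟩ := h1
    rw [List.mem_range] at hi
    have h := hr (pt i)
    rw [Equiv.Perm.one_apply, ix_pt hi] at h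
    rw [h, Bool.not_eq_true'] at hb
    simp at hb

theorem exists_triple {p q r : ℕ} (hp : p.Prime) (hq : q.Prime) (hr : r.Prime)
    (h : (p, q, r) ∈ triples.map Prod.fst) :
    ∃ x y z : Spor.M23, orderOf x = p ∧ orderOf y = q ∧ orderOf z = r ∧ x * y * z = 1 ∧
      Subgroup.closure {x, y} = ⊤ := by
  obtain ⟨e, he, h'⟩ := List.mem_map.1 h
  obtain ⟨⟨p', q', r'⟩, ⟨a, b, c⟩, wa, wb⟩ := e
  obtain ⟨rfl, rfl, rfl⟩ : p' = p ∧ q' = q ∧ r' = r := by simpa using h'
  have hc := List.all_eq_true.1 triples_ok _ he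
  simp only [entryOK, Bool.and_eq_true, Nat.beq_eq] at hc
  obtain ⟨⟨⟨⟨⟨⟨⟨⟨⟨⟨⟨⟨⟨⟨ha1, ha2⟩, hb1⟩, hb2⟩, hc1⟩, hc2⟩, hm⟩, hna⟩, hoa⟩, hnb⟩, hob⟩, hnc⟩, hoc⟩, hA⟩, hB⟩ := hc
  obtain ⟨x, hx⟩ := mem_M23_of_check ha1 ha2
  obtain ⟨y, hy⟩ := mem_M23_of_check hb1 hb2
  obtain ⟨z, hz⟩ := mem_M23_of_check hc1 hc2
  refine ⟨x, y, z, orderOf_of_word hp hx hna hoa, orderOf_of_word hq hy hnb hob,
    orderOf_of_word hr hz hnc hoc, ?_, ?_⟩
  · have h := hx.mul (hy.mul hz)
    rw [hm] at h
    exact (mul_assoc x y z).trans (Subtype.ext (h.unique Rep.one))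
  · set K := (Subgroup.closure {x, y}).map Spor.M23.subtype with hK
    have hgens : ∀ t ∈ [a, b], ∃ σ ∈ K, Rep σ t := by
      intro t ht
      rcases List.mem_cons.1 ht with rfl | ht
      · exact ⟨_, Subgroup.mem_map_of_mem _ (Subgroup.subset_closure (by simp)), hx⟩
      · rw [List.mem_singleton] at ht; rw [ht]
        exact ⟨_, Subgroup.mem_map_of_mem _ (Subgroup.subset_closure (by simp)), hy⟩
    have h := eq_M23_of_gens (Subgroup.map_subtype_le _) (hA ▸ evalW_rep hgens wa) (hB ▸ evalW_rep hgens wb)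
    refine eq_top_iff.2 fun g _ => ?_
    obtain ⟨g', hg', e'⟩ := Subgroup.mem_map.1 (show (g : Equiv.Perm GolayPt) ∈ K by rw [hK, h]; exact g.2)
    have eg : g' = g := Subtype.ext e'
    rwa [← eg]

theorem triples_keys : triples.map Prod.fst =
    [(2,5,11),(2,5,23),(2,7,7),(2,7,11),(2,7,23),(2,11,11),(2,11,23),(2,23,23),(3,3,11),(3,3,23),(3,5,5),(3,5,7),
     (3,5,11),(3,5,23),(3,7,7),(3,7,11),(3,7,23),(3,11,11),(3,11,23),(3,23,23),(5,5,5),(5,5,7),(5,5,11),(5,5,23),
     (5,7,7),(5,7,11),(5,7,23),(5,11,11),(5,11,23),(5,23,23),(7,7,7),(7,7,11),(7,7,23),(7,11,11),(7,11,23),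
     (7,23,23),(11,11,11),(11,11,23),(11,23,23),(23,23,23)] := by decide +kernel

end CfsgLib.ThreeTrans.M23Triples
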