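import Cfsg.Agent.Lib.Sporadic.MathieuTwelveAut
import Cfsg.Agent.Lib.Sporadic.MathieuOrbitTools
import Cfsg.Agent.Lib.Sporadic.MathieuTwo
import Cfsg.Agent.Lib.Sporadic.SporMathieu

set_option autoImplicit false

/-!
Scott's rank inequality for permutation triples and its consequences in M23 (owner: helper28).
-/

namespace CfsgLib.ThreeTrans.M23Triples

open Cfsg CfsgLib.Sporadic CfsgLib.Sporadic.M12Aut CfsgLib.Sporadic.OrbTool MulAction
open scoped Pointwise

/-- The permutation module on the 24 points. -/
abbrev V : Type := GolayPt → ℚ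

/-- The permutation representation. -/
noncomputable def ρ : Equiv.Perm GolayPt →* Module.End ℚ V where
  toFun σ := LinearMap.funLeft ℚ ℚ ⇑σ⁻¹
  map_one' := LinearMap.ext fun f => funext fun i => by simp [LinearMap.funLeft_apply]
  map_mul' σ τ := LinearMap.ext fun f => funext fun i => by
    simp [LinearMap.funLeft_apply, mul_inv_rev]

theorem ρ_apply (σ : Equiv.Perm GolayPt) (f : V) (i : GolayPt) : ρ σ f i = f (σ⁻¹ i) := rfl

theorem ρ_single (σ : Equiv.Perm GolayPt) (a : GolayPt) :
    ρ σ (Pi.single a 1) = Pi.single (σ a) (1 : ℚ) := by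
  funext i
  rw [ρ_apply, Pi.single_apply, Pi.single_apply]
  exact if_congr (Equiv.Perm.inv_eq_iff_eq.trans ⟨fun h => h, fun h => h⟩) rfl rfl

/-- The rank of `1 - σ`. -/
noncomputable def rk (σ : Equiv.Perm GolayPt) : ℕ :=
  Module.finrank ℚ (LinearMap.range (1 - ρ σ : Module.End ℚ V))

theorem scott {x y z : Equiv.Perm GolayPt} (hxyz : x * y * z = 1)
    (hn : x none = none ∧ y none = none)
    (htr : ∀ j : ZMod 23, ∃ g ∈ Subgroup.closure {x, y}, g (some 0) = some j) :
    44 ≤ rk x + rk y + rk z := by
  let ex : Module.End ℚ V := 1 - ρ x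
  let ey : Module.End ℚ V := 1 - ρ y
  let ez : Module.End ℚ V := 1 - ρ z
  let β : V →ₗ[ℚ] LinearMap.range ex × LinearMap.range ey × LinearMap.range ez :=
    ex.rangeRestrict.prod (ey.rangeRestrict.prod ez.rangeRestrict)
  let δ : LinearMap.range ex × LinearMap.range ey × LinearMap.range ez →ₗ[ℚ] V :=
    (LinearMap.range ex).subtype.coprod
      ((ρ x ∘ₗ (LinearMap.range ey).subtype).coprod (ρ (x * y) ∘ₗ (LinearMap.range ez).subtype))
  have hcomp : δ ∘ₗ β = 0 := LinearMap.ext fun v => by
    have h : ρ (x * y) (ρ z v) = v := by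
      rw [← Module.End.mul_apply, ← map_mul, hxyz, map_one, Module.End.one_apply]
    show ex v + (ρ x (ey v) + ρ (x * y) (ez v)) = 0
    simp only [ex, ey, ez, LinearMap.sub_apply, Module.End.one_apply, map_sub, h]
    rw [map_mul, Module.End.mul_apply]
    abel
  have hker : Module.finrank ℚ (LinearMap.ker β) ≤ 2 := by
    let ev : LinearMap.ker β →ₗ[ℚ] ℚ × ℚ :=
      ((LinearMap.proj none).prod (LinearMap.proj (some (0 : ZMod 23)))).comp (LinearMap.ker β).subtype
    have hinj : Function.Injective ev := by
      rw [injective_iff_map_eq_zero]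
      rintro ⟨f, hf⟩ h
      have h' : f none = 0 ∧ f (some 0) = 0 := by simpa [ev, Prod.ext_iff] using h
      rw [LinearMap.mem_ker] at hf
      have fx : ρ x f = f := by
        have := congrArg (fun p => (p.1 : V)) hf
        have h0 : ex f = 0 := this
        rw [LinearMap.sub_apply, Module.End.one_apply, sub_eq_zero] at h0
        exact h0.symm
      have fy : ρ y f = f := by
        have := congrArg (fun p => (p.2.1 : V)) hf
        have h0 : ey f = 0 := this
        rw [LinearMap.sub_apply, Module.End.one_apply, sub_eq_zero] at h0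
        exact h0.symm
      have hinv : ∀ g ∈ Subgroup.closure {x, y}, ρ g f = f := by
        intro g hg
        induction hg using Subgroup.closure_induction with
        | mem g hg =>
          rcases hg with rfl | hg
          · exact fx
          · rw [Set.mem_singleton_iff] at hg; rw [hg]; exact fy
        | one => rw [map_one]; rfl
        | mul a b _ _ ha hb => rw [map_mul, Module.End.mul_apply, hb, ha]
        | inv a _ ha =>
          conv_lhs => rw [← ha]
          rw [← Module.End.mul_apply, ← map_mul, inv_mul_cancel, map_one, Module.End.one_apply]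
      refine Subtype.ext (funext fun i => ?_)
      cases i with
      | none => exact h'.1
      | some j =>
        obtain ⟨g, hg, e⟩ := htr j
        have := congrFun (hinv g hg) (some j)
        rw [ρ_apply, Equiv.Perm.inv_eq_iff_eq.2 e.symm, h'.2] at this
        exact this.symm
    have h2 := LinearMap.finrank_le_finrank_of_injective hinj
    simpa using h2
  have hV : Module.finrank ℚ V = 24 := by rw [Module.finrank_fintype_fun_eq_card]; rfl
  have hrb : 22 ≤ Module.finrank ℚ (LinearMap.range β) := by
    have := LinearMap.finrank_range_add_finrank_ker β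
    omega
  have hrd : 22 ≤ Module.finrank ℚ (LinearMap.range δ) := by
    set S := LinearMap.range δ with hS
    have hax : ∀ v, ρ x v - v ∈ S := fun v => by
      refine ⟨(-⟨ex v, LinearMap.mem_range_self ex v⟩, 0, 0), ?_⟩
      simp [δ, ex]
    have hay : ∀ v, ρ y v - v ∈ S := fun v => by
      refine ⟨(-⟨ex (ey v), LinearMap.mem_range_self ex _⟩, -⟨ey v, LinearMap.mem_range_self ey v⟩, 0), ?_⟩
      simp [δ, ex, ey]
      abel
    have hall : ∀ g ∈ Subgroup.closure {x, y}, ∀ v, ρ g v - v ∈ S := by
      intro g hg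
      induction hg using Subgroup.closure_induction with
      | mem g hg =>
        rcases hg with rfl | hg
        · exact hax
        · rw [Set.mem_singleton_iff] at hg; rw [hg]; exact hay
      | one => intro v; rw [map_one, Module.End.one_apply, sub_self]; exact zero_mem _
      | mul a b _ _ ha hb =>
        intro v
        have h := add_mem (ha (ρ b v)) (hb v)
        rw [sub_add_sub_cancel] at h
        rw [map_mul, Module.End.mul_apply]
        exact h
      | inv a _ ha =>
        intro v
        have h := neg_mem (ha (ρ a⁻¹ v))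
        rw [← Module.End.mul_apply, ← map_mul, mul_inv_cancel, map_one, Module.End.one_apply, neg_sub] at h
        exact h
    let T : Submodule ℚ V := Submodule.span ℚ {Pi.single none 1, Pi.single (some (0 : ZMod 23)) 1}
    have hT : Module.finrank ℚ T ≤ 2 := by
      classical
      have h : T = Submodule.span ℚ (({Pi.single none 1, Pi.single (some (0 : ZMod 23)) 1} : Finset V) : Set V) := by
        simp [T]
      rw [h]
      exact (finrank_span_finset_le_card _).trans (Finset.card_le_two)
    have htop : S ⊔ T = ⊤ := by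
      rw [eq_top_iff, ← (Pi.basisFun ℚ GolayPt).span_eq, Submodule.span_le]
      rintro v ⟨i, rfl⟩
      rw [Pi.basisFun_apply, SetLike.mem_coe]
      cases i with
      | none => exact Submodule.mem_sup_right (Submodule.subset_span (by simp))
      | some j =>
        obtain ⟨g, hg, e⟩ := htr j
        have h1 := hall g hg (Pi.single (some 0) 1)
        rw [ρ_single, e] at h1
        have h2 : Pi.single (some (0 : ZMod 23)) (1 : ℚ) ∈ T := Submodule.subset_span (by simp)
        have h3 := Submodule.add_mem (S ⊔ T) (Submodule.mem_sup_left h1) (Submodule.mem_sup_right h2)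
        rwa [sub_add_cancel] at h3
    have := Submodule.finrank_add_le_finrank_add_finrank S T
    rw [htop, finrank_top, hV] at this
    omega
  have hle : LinearMap.range β ≤ LinearMap.ker δ := LinearMap.range_le_ker_iff.2 hcomp
  have h1 := Submodule.finrank_mono hle
  have h2 := LinearMap.finrank_range_add_finrank_ker δ
  rw [Module.finrank_prod, Module.finrank_prod] at h2
  change Module.finrank ℚ (LinearMap.range δ) + Module.finrank ℚ (LinearMap.ker δ) = rk x + (rk y + rk z) at h2
  omega

theorem rk_le {σ : Equiv.Perm GolayPt} {q : ℕ} [Fact q.Prime] (hσ : orderOf σ = q) :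
    q * rk σ + (q - 1) * (Finset.univ.filter fun a : GolayPt => σ a = a).card ≤ 24 * (q - 1) := by
  classical
  let Z := Subgroup.zpowers σ
  have hq := (Fact.out : q.Prime)
  let Ω := Quotient (MulAction.orbitRel Z GolayPt)
  haveI : Fintype Ω := Fintype.ofFinite Ω
  haveI : Fintype Z := Fintype.ofFinite Z
  have hb := MulAction.sum_card_fixedBy_eq_card_orbits_mul_card_group Z GolayPt
  have hcZ : Fintype.card Z = q := by rw [← Nat.card_eq_fintype_card, Nat.card_zpowers, hσ]
  rw [← Nat.card_eq_fintype_card (α := Quotient _)] at hb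
  rw [hcZ, ← Finset.add_sum_erase _ _ (Finset.mem_univ (1 : Z))] at hb
  have h1 : Fintype.card (MulAction.fixedBy GolayPt (1 : Z)) = 24 := by
    rw [← Nat.card_eq_fintype_card, show MulAction.fixedBy GolayPt (1 : Z) = Set.univ by ext a; simp,
      Nat.card_coe_set_eq, Set.ncard_univ, Nat.card_eq_fintype_card]
    rfl
  have hg : ∀ g ∈ (Finset.univ : Finset Z).erase 1, Fintype.card (MulAction.fixedBy GolayPt g) =
      (Finset.univ.filter fun a : GolayPt => σ a = a).card := by
    intro g hg
    obtain ⟨g, hgz⟩ := g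
    have hg1 : g ≠ 1 := fun e => (Finset.mem_erase.1 hg).1 (Subtype.ext e)
    have hog : orderOf g = q :=
      ((Nat.dvd_prime hq).1 (hσ ▸ orderOf_dvd_of_mem_zpowers hgz)).resolve_left
        (fun e => hg1 (orderOf_eq_one_iff.1 e))
    have heq : Subgroup.zpowers g = Subgroup.zpowers σ :=
      Subgroup.eq_of_le_of_card_ge (Subgroup.zpowers_le.2 hgz) (by rw [Nat.card_zpowers, Nat.card_zpowers, hog, hσ])
    rw [← Nat.card_eq_fintype_card, ← Fintype.card_subtype, ← Nat.card_eq_fintype_card]
    refine Nat.card_congr (Equiv.subtypeEquivRight fun a => ?_)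
    show g • a = a ↔ σ • a = a
    rw [← MulAction.mem_stabilizer_iff (a := a), ← MulAction.mem_stabilizer_iff (a := a),
      ← Subgroup.zpowers_le, heq, Subgroup.zpowers_le]
  rw [h1, Finset.sum_congr rfl hg, Finset.sum_const, Finset.card_erase_of_mem (Finset.mem_univ _),
    Finset.card_univ, hcZ, smul_eq_mul] at hb
  let π : (Ω → ℚ) →ₗ[ℚ] V := LinearMap.funLeft ℚ ℚ (Quotient.mk (MulAction.orbitRel Z GolayPt))
  have hπ : Function.Injective π := LinearMap.funLeft_injective_of_surjective ℚ ℚ _ Quotient.mk_surjective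
  have hle : LinearMap.range π ≤ LinearMap.ker (1 - ρ σ : Module.End ℚ V) := by
    rintro v ⟨f, rfl⟩
    rw [LinearMap.mem_ker, LinearMap.sub_apply, Module.End.one_apply, sub_eq_zero]
    funext i
    rw [ρ_apply]
    show f _ = f _
    congr 1
    refine Quotient.sound (?_ : MulAction.orbitRel Z GolayPt i (σ⁻¹ i))
    rw [MulAction.orbitRel_apply]
    exact ⟨⟨σ, Subgroup.mem_zpowers σ⟩, by show σ (σ⁻¹ i) = i; simp⟩
  have hd := Submodule.finrank_mono hle
  rw [LinearMap.finrank_range_of_inj hπ, Module.finrank_fintype_fun_eq_card, ← Nat.card_eq_fintype_card] at hd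
  have hrn := LinearMap.finrank_range_add_finrank_ker (1 - ρ σ : Module.End ℚ V)
  rw [Module.finrank_fintype_fun_eq_card, show Fintype.card GolayPt = 24 from rfl] at hrn
  change rk σ + _ = 24 at hrn
  have hm := Nat.mul_le_mul_left q hd
  obtain ⟨k, rfl⟩ : ∃ k, q = k + 1 := ⟨q - 1, by have := hq.one_le; omega⟩
  simp only [Nat.add_sub_cancel] at hb ⊢
  nlinarith

theorem rk_le_twenty_three (σ : Equiv.Perm GolayPt) (h : σ none = none) : rk σ ≤ 22 := by
  have h2 : 2 ≤ Module.finrank ℚ (LinearMap.ker (1 - ρ σ : Module.End ℚ V)) := by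
    let π : ℚ × ℚ →ₗ[ℚ] V :=
      { toFun := fun p i => if i = none then p.1 else p.2
        map_add' := fun p r => funext fun i => by by_cases hi : i = none <;> simp [hi]
        map_smul' := fun c p => funext fun i => by by_cases hi : i = none <;> simp [hi] }
    have hπ : Function.Injective π := fun p r e =>
      Prod.ext (by simpa [π] using congrFun e none) (by simpa [π] using congrFun e (some 0))
    have hle : LinearMap.range π ≤ LinearMap.ker (1 - ρ σ : Module.End ℚ V) := by
      rintro v ⟨p, rfl⟩
      rw [LinearMap.mem_ker, LinearMap.sub_apply, Module.End.one_apply, sub_eq_zero]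
      funext i
      rw [ρ_apply]
      have hiff : σ⁻¹ i = none ↔ i = none := by rw [Equiv.Perm.inv_eq_iff_eq, h]
      show (if i = none then p.1 else p.2) = if σ⁻¹ i = none then p.1 else p.2
      rw [if_congr hiff rfl rfl]
    have := Submodule.finrank_mono hle
    rw [LinearMap.finrank_range_of_inj hπ] at this
    simpa using this
  have hrn := LinearMap.finrank_range_add_finrank_ker (1 - ρ σ : Module.End ℚ V)
  rw [Module.finrank_fintype_fun_eq_card, show Fintype.card GolayPt = 24 from rfl] at hrn
  change rk σ + _ = 24 at hrn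
  omega

theorem not_generate {p q r : ℕ} (x y z : Spor.M23) (hx : orderOf x = p) (hy : orderOf y = q)
    (hz : orderOf z = r) (hxyz : x * y * z = 1) (hgen : Subgroup.closure {x, y} = ⊤) :
    ¬ ((p = 2 ∧ q = 3) ∨ (p = 2 ∧ q = 5 ∧ r = 5) ∨ (p = 2 ∧ q = 5 ∧ r = 7) ∨
      (p = 3 ∧ q = 3 ∧ (r = 3 ∨ r = 5 ∨ r = 7))) := by
  classical
  have hs : 44 ≤ rk (x : Equiv.Perm GolayPt) + rk (y : Equiv.Perm GolayPt) + rk (z : Equiv.Perm GolayPt) := by
    refine scott (by rw [← Subgroup.coe_mul, ← Subgroup.coe_mul, hxyz]; rfl) ⟨x.2.2, y.2.2⟩ fun j => ?_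
    obtain ⟨g, e1, e2⟩ := exists_map_two (p := none) (q := some (0 : ZMod 23)) (p' := none) (q' := some j)
      (by simp) (by simp)
    have hg : (g : Equiv.Perm GolayPt) ∈ Spor.M23 := ⟨g.2, e1⟩
    refine ⟨g, ?_, e2⟩
    have hm := Subgroup.mem_map_of_mem Spor.M23.subtype
      (show (⟨g, hg⟩ : Spor.M23) ∈ Subgroup.closure {x, y} by rw [hgen]; trivial)
    rw [MonoidHom.map_closure, Set.image_pair] at hm
    exact hm
  have h22 := rk_le_twenty_three (z : Equiv.Perm GolayPt) z.2.2
  have bound : ∀ (w : Spor.M23) (n : ℕ), orderOf w = n →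
      (n = 2 → rk (w : Equiv.Perm GolayPt) ≤ 8) ∧ (n = 3 → rk (w : Equiv.Perm GolayPt) ≤ 12) ∧
      (n = 5 → rk (w : Equiv.Perm GolayPt) ≤ 16) ∧ (n = 7 → rk (w : Equiv.Perm GolayPt) ≤ 18) := by
    intro w n hw
    let u : ↥M24 := ⟨w, w.2.1⟩
    have hwo : orderOf (w : Equiv.Perm GolayPt) = n := by rw [Subgroup.orderOf_coe, hw]
    have huo : orderOf u = n := by rw [Subgroup.orderOf_mk, hwo]
    have hun : u • (none : GolayPt) = none := w.2.2
    refine ⟨?_, ?_, ?_, ?_⟩ <;> rintro rfl
    · have : Fact (Nat.Prime 2) := ⟨Nat.prime_two⟩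
      have h := rk_le hwo
      have hsq : u * u = 1 := by rw [← pow_two, ← huo]; exact pow_orderOf_eq_one u
      have hne : u ≠ 1 := fun e => by rw [e, orderOf_one] at huo; omega
      obtain ⟨o, ho, hfix⟩ := fixed_eq_octad hsq hne hun
      have hc : (Finset.univ.filter fun a : GolayPt => (w : Equiv.Perm GolayPt) a = a) = o := by
        ext a
        rw [Finset.mem_filter]
        exact ⟨fun h => (hfix a).1 h.2, fun h => ⟨Finset.mem_univ a, (hfix a).2 h⟩⟩
      rw [hc, ho.2] at h
      omega
    · have : Fact (Nat.Prime 3) := ⟨Nat.prime_three⟩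
      have h := rk_le hwo
      have hc := fixed_three huo hun
      change (Finset.univ.filter fun a : GolayPt => (w : Equiv.Perm GolayPt) a = a).card = 6 at hc
      omega
    · have : Fact (Nat.Prime 5) := ⟨Nat.prime_five⟩
      have h := rk_le hwo
      have hc := card_fixSet (Or.inl rfl) huo
      change (Finset.univ.filter fun a : GolayPt => (w : Equiv.Perm GolayPt) a = a).card = 4 at hc
      omega
    · have : Fact (Nat.Prime 7) := ⟨by norm_num⟩
      have h := rk_le hwo
      have hc := card_fixSet (Or.inr rfl) huo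
      change (Finset.univ.filter fun a : GolayPt => (w : Equiv.Perm GolayPt) a = a).card = 3 at hc
      omega
  obtain ⟨x2, x3, x5, x7⟩ := bound x p hx
  obtain ⟨y2, y3, y5, y7⟩ := bound y q hy
  obtain ⟨z2, z3, z5, z7⟩ := bound z r hz
  rintro (⟨hp, hq⟩ | ⟨hp, hq, hr⟩ | ⟨hp, hq, hr⟩ | ⟨hp, hq, hr | hr | hr⟩)
  · have := x2 hp; have := y3 hq; omega
  · have := x2 hp; have := y5 hq; have := z5 hr; omega
  · have := x2 hp; have := y5 hq; have := z7 hr; omega
  · have := x3 hp; have := y3 hq; have := z3 hr; omega
  · have := x3 hp; have := y3 hq; have := z5 hr; omega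
  · have := x3 hp; have := y3 hq; have := z7 hr; omega

end CfsgLib.ThreeTrans.M23Triples
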